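import Cfsg.Agent.CosetEnum.HeA.Chain1

set_option autoImplicit false
set_option maxRecDepth 100000

/-! A relation among a, c, d, e in the presented Held group, read off the regular coset table of
the subgroup on a, b, c, d, e. -/

namespace CfsgLib.CosetEnum.HeA

/-- The word cdcdedcdcdedcde is trivial in the presented Held group. -/
theorem word_one : prodw CfsgLib.CosetEnum.He.setup.g [2,3,2,3,4,3,2,3,2,3,4,3,2,3,4] = 1 :=
  enum.word_eq_one good23 [2,3,2,3,4,3,2,3,2,3,4,3,2,3,4] rfl (by decide +kernel)

end CfsgLib.CosetEnum.HeA
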